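import Groth.Agent.EtRshriek.Homology
import Groth.Agent.EtPBC.ShriekProperDim
import Groth.Agent.EtShriekStalk.Basic
import Groth.Agent.WayOut.Basic
import Groth.Agent.Unibranch.FibreChains
import Groth.Agent.S0402
import Groth.Agent.EtTorsPoint.Push
import Groth.Agent.SpRelDim.FibreDimY
import Mathlib

/-!
Amplitude of `R f_!` of torsion objects.
-/

set_option autoImplicit false
set_option backward.isDefEq.respectTransparency false
set_option backward.isDefEq.respectTransparency.types false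
set_option linter.style.haveILetI false
set_option linter.unusedSectionVars false
set_option linter.overlappingInstances false
set_option maxHeartbeats 1000000

universe u

open CategoryTheory CategoryTheory.Limits CategoryTheory.Pretriangulated AlgebraicGeometry Opposite

attribute [local instance] HasDerivedCategory.standard

noncomputable section

namespace Groth.Agent.EtRshriek

open DerivedCategory (Q Qh homologyFunctor)

/-- fibre dimensions are bounded on a quasi-compact scheme -/
theorem exists_fibre_bound {X Y : Scheme.{u}} (f : X ⟶ Y) [LocallyOfFiniteType f] [CompactSpace ↥X] :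
    ∃ n : ℕ, ∀ y : Y, topologicalKrullDim (f.fiber y) ≤ n := by
  obtain ⟨t, ht⟩ := isCompact_univ.elim_finite_subcover (fun n : ℕ => {w : X | FlatMor.fibreDimAt f w ≤ n})
    (fun n => S0402.result f n) fun w _ => by
      obtain ⟨n, hn⟩ := Groth.Agent.Unibranch.exists_fibreDimAt_eq f w
      exact Set.mem_iUnion.2 ⟨n, hn.le⟩
  refine ⟨t.sup id, fun y => (SpRelDim.fiber_dim_le_iff f y _).2 fun u _ => ?_⟩
  obtain ⟨m, hm, hu⟩ := Set.mem_iUnion₂.1 (ht (Set.mem_univ u))
  exact le_trans hu (by exact_mod_cast t.le_sup (f := id) hm)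

/-- zero sheaves are torsion -/
theorem isTorsion_of_isZero {X : Scheme.{u}} {F : EtCoh.Ab X} (h : IsZero F) : EtCoh.IsTorsion F := by
  intro U s x
  refine ⟨U, 𝟙 U, ⟨x, rfl⟩, ?_⟩
  have hs : s = 0 := congrArg (fun z => (z.hom.app (op U)).hom s) (h.eq_of_src (𝟙 F) 0)
  rw [hs, map_zero]
  exact IsOfFinAddOrder.zero

variable {X P S : Scheme.{u}} (j : X ⟶ P) [IsOpenImmersion j] (p : P ⟶ S) [IsProper p]
  [PreservesFiniteLimits (EtShriek.extZero j)] [DCoh.HasRpushEt P p]

/-- `R f_!` of a torsion sheaf lives in degrees at most twice the fibre dimension -/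
theorem isLE_single (d : ℕ) (hdim : ∀ s : S, topologicalKrullDim ((j ≫ p).fiber s) ≤ d) (F : EtCoh.Ab X)
    (hF : EtCoh.IsTorsion F) :
    ((DEt.extZeroD j ⋙ DCoh.RpushEt P p).obj (WayOut.sgl F)).IsLE (2 * d : ℕ) := by
  rw [DerivedCategory.isLE_iff]
  intro i hi
  obtain ⟨e⟩ := nonempty_map_single (EtShriek.extZero j) F
  obtain ⟨q, rfl⟩ := Int.eq_ofNat_of_zero_le (show (0 : ℤ) ≤ i by omega)
  obtain ⟨e'⟩ := nonempty_H_single_nat p ((EtShriek.extZero j).obj F) q
  exact (EtPBC.isZero_Rpush_extZero j p d hdim F hF q (by omega)).of_iso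
    ((homologyFunctor (EtCoh.Ab S) (q : ℤ)).mapIso ((DCoh.RpushEt P p).mapIso e) ≪≫ e')

theorem preservesGE : WayOut.PreservesGE (DEt.extZeroD j ⋙ DCoh.RpushEt P p) := by
  haveI := EtPullExact.pull_preservesFiniteLimits p
  obtain ⟨adj, -⟩ := EtBCBridge.exists_adj p
  exact fun M m h => WayOut.preservesGE_right adj _ m (WayOut.preservesGE_mapDerived (EtShriek.extZero j) M m h)

/-- dévissage of the upper bound -/
theorem isLE_of_bounded (d : ℕ) (hdim : ∀ s : S, topologicalKrullDim ((j ≫ p).fiber s) ≤ d) (k : ℕ) :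
    ∀ (E : DCoh.DEt X) (a b : ℤ), b + 1 ≤ a + k → E.IsGE a → E.IsLE b →
      (∀ i, EtCoh.IsTorsion (DCoh.HDEt E i)) →
        ((DEt.extZeroD j ⋙ DCoh.RpushEt P p).obj E).IsLE (b + (2 * d : ℕ)) := by
  haveI := EtPullExact.pull_preservesFiniteLimits p
  obtain ⟨adj, -⟩ := EtBCBridge.exists_adj p
  letI := adj.rightAdjointCommShift ℤ
  haveI := adj.commShift_of_leftAdjoint ℤ
  haveI := adj.isTriangulated_rightAdjoint
  let Φ : DCoh.DEt X ⥤ DCoh.DEt S := DEt.extZeroD j ⋙ DCoh.RpushEt P p
  induction k with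
  | zero =>
    intro E a b hk ha hb _
    change (Φ.obj E).IsLE _
    rw [DerivedCategory.isLE_iff]
    exact fun i _ => Functor.map_isZero _ (Φ.map_isZero (DerivedCategory.TStructure.t.isZero E b a (by omega)))
  | succ k ih =>
    intro E a b hk ha hb hE
    obtain ⟨U, V, hU, hV, f, g, δ, hT⟩ := DerivedCategory.TStructure.t.exists_triangle E (b - 1) b (by omega)
    haveI : U.IsLE (b - 1) := ⟨hU⟩
    haveI : V.IsGE b := ⟨hV⟩
    have hz : ∀ i, b - 1 < i → IsZero (WayOut.Hn i U) := fun i hi => U.isZero_of_isLE (b - 1) i hi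
    haveI hVle : V.IsLE b := by
      rw [DerivedCategory.isLE_iff]
      intro i hi
      exact (DerivedCategory.HomologySequence.exact₃ _ hT i (i + 1) rfl).isZero_of_both_zeros
        ((E.isZero_of_isLE b i hi).eq_of_src _ _) ((hz (i + 1) (by omega)).eq_of_tgt _ _)
    have hH : ∀ i, i < b → IsIso ((homologyFunctor (EtCoh.Ab X) i).map f) := fun i hi =>
      WayOut.isIso_H_mor₁ _ hT b i ‹V.IsGE b› hi
    have hUge : U.IsGE a := by
      rw [DerivedCategory.isGE_iff]
      intro i hi
      by_cases h : i < b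
      · haveI := hH i h
        exact (E.isZero_of_isGE a i hi).of_iso (asIso ((homologyFunctor (EtCoh.Ab X) i).map f))
      · exact hz i (by omega)
    have hUT : ∀ i, EtCoh.IsTorsion (DCoh.HDEt U i) := by
      intro i
      by_cases h : i < b
      · haveI := hH i h
        exact EtTorsPoint.isTorsion_of_iso (asIso ((homologyFunctor (EtCoh.Ab X) i).map f)) (hE i)
      · exact isTorsion_of_isZero (hz i (by omega))
    have hU' : (Φ.obj U).IsLE (b + (2 * d : ℕ)) :=
      haveI := ih U a (b - 1) (by omega) hUge inferInstance hUT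
      DerivedCategory.TStructure.t.isLE_of_le (Φ.obj U) (b - 1 + (2 * d : ℕ)) _ (by omega)
    have hV' : (Φ.obj V).IsLE (b + (2 * d : ℕ)) := by
      obtain ⟨M, ⟨eV⟩⟩ := DerivedCategory.exists_iso_singleFunctor_obj_of_isGE_of_isLE V b
      haveI : Epi ((homologyFunctor (EtCoh.Ab X) b).map g) :=
        (DerivedCategory.HomologySequence.exact₃ _ hT b (b + 1) rfl).epi_f ((hz (b + 1) (by omega)).eq_of_tgt _ _)
      haveI : Mono ((homologyFunctor (EtCoh.Ab X) b).map g) :=
        (DerivedCategory.HomologySequence.exact₂ _ hT b).mono_g ((hz b (by omega)).eq_of_src _ _)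
      haveI : IsIso ((homologyFunctor (EtCoh.Ab X) b).map g) := isIso_of_mono_of_epi _
      have hM : EtCoh.IsTorsion M := EtTorsPoint.isTorsion_of_iso
        (asIso ((homologyFunctor (EtCoh.Ab X) b).map g) ≪≫ (homologyFunctor (EtCoh.Ab X) b).mapIso eV ≪≫
          WayOut.singleHomologyIso M b).symm (hE b)
      haveI := isLE_single j p d hdim M hM
      have hsh : ((Φ.obj (WayOut.sgl M))⟦-b⟧).IsLE (b + (2 * d : ℕ)) :=
        DerivedCategory.TStructure.t.isLE_shift (Φ.obj (WayOut.sgl M)) (2 * d : ℕ) (-b) _ (by omega)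
      haveI : DerivedCategory.TStructure.t.IsLE ((Φ ⋙ shiftFunctor (DCoh.DEt S) (-b)).obj (WayOut.sgl M))
          (b + (2 * d : ℕ)) := hsh
      exact DerivedCategory.TStructure.t.isLE_of_iso ((((Φ.commShiftIso (-b)).app (WayOut.sgl M)).symm :) ≪≫
        Φ.mapIso (((DerivedCategory.singleFunctors (EtCoh.Ab X)).shiftIso (-b) b 0 (by omega)).app M ≪≫ eV.symm)) _
    exact DerivedCategory.TStructure.t.isLE₂ (Φ.mapTriangle.obj (Triangle.mk f g δ))
      (Φ.map_distinguished _ hT) _ hU' hV'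

theorem exists_bound [CompactSpace ↥X] [LocallyOfFiniteType (j ≫ p)] :
    ∃ N : ℕ, ∀ (E : DCoh.DEt X), (∀ n : ℤ, EtCoh.IsTorsion (DCoh.HDEt E n)) → ∀ a b : ℤ,
      (∀ i : ℤ, i < a ∨ b < i → IsZero (DCoh.HDEt E i)) →
        ∀ i : ℤ, i < a ∨ b + N < i → IsZero (DCoh.HDEt ((DEt.extZeroD j ⋙ DCoh.RpushEt P p).obj E) i) := by
  obtain ⟨d, hd⟩ := exists_fibre_bound (j ≫ p)
  refine ⟨2 * d, fun E hE a b h i hi => ?_⟩
  have ha : E.IsGE a := (DerivedCategory.isGE_iff E a).2 fun i hi => h i (.inl hi)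
  have hb : E.IsLE b := (DerivedCategory.isLE_iff E b).2 fun i hi => h i (.inr hi)
  rcases hi with hi | hi
  · haveI := preservesGE j p E a ha
    exact DerivedCategory.isZero_of_isGE _ a i hi
  · haveI := isLE_of_bounded j p d hd (b + 1 - a).toNat E a b (by omega) ha hb hE
    exact DerivedCategory.isZero_of_isLE _ (b + (2 * d : ℕ)) i hi

end Groth.Agent.EtRshriek
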