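import Groth.Agent.EtRshriek.Dominate
import Groth.Agent.Compactif.Basic
import Groth.Agent.EtShriekStalk.Basic
import Groth.Prelude.Def_SixF1
import Mathlib

/-!
Independence of `R f_!` of the compactification on bounded below torsion objects.
-/

set_option autoImplicit false
set_option backward.isDefEq.respectTransparency false
set_option backward.isDefEq.respectTransparency.types false
set_option linter.style.haveILetI false
set_option linter.unusedSectionVars false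
set_option linter.overlappingInstances false
set_option maxHeartbeats 1000000

universe u

open CategoryTheory CategoryTheory.Limits AlgebraicGeometry Opposite

attribute [local instance] HasDerivedCategory.standard

noncomputable section

namespace Groth.Agent.EtRshriek

/-- `R f_*` exists -/
theorem hasRpushEt {X Y : Scheme.{u}} (f : X ⟶ Y) : DCoh.HasRpushEt X f :=
  (KInj.isDeforming_Qh (RPlusComp.hKinj X) (DCoh.pushEtKh X f)).hasRightDerivedFunctor _

/-- `R(g ∘ f)_* = Rg_* ∘ Rf_*` on objects -/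
theorem nonempty_Rpush_comp {X Y Z : Scheme.{u}} (f : X ⟶ Y) (g : Y ⟶ Z) (h : X ⟶ Z) (w : f ≫ g = h)
    [DCoh.HasRpushEt X f] [DCoh.HasRpushEt Y g] [DCoh.HasRpushEt X h] (M : DCoh.DEt X) :
    Nonempty ((DCoh.RpushEt X h).obj M ≅ (DCoh.RpushEt Y g).obj ((DCoh.RpushEt X f).obj M)) := by
  subst w
  haveI := RPlusComp.isIso_compMap f g
  exact ⟨(asIso (EtSix.compMap f g)).app M⟩

/-- a compactification mapping properly to another computes the same object -/
theorem nonempty_Rshriek_iso {X P₁ P S : Scheme.{u}} (j₁ : X ⟶ P₁) [IsOpenImmersion j₁] (p₁ : P₁ ⟶ S)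
    (j : X ⟶ P) [IsOpenImmersion j] (p : P ⟶ S) (π : P₁ ⟶ P) [IsProper π] (w : j₁ ≫ π = j) (w' : π ≫ p = p₁)
    [PreservesFiniteLimits (EtShriek.extZero j₁)] [PreservesFiniteLimits (EtShriek.extZero j)]
    [DCoh.HasRpushEt P₁ p₁] [DCoh.HasRpushEt P p] (K : DCoh.DEt X) (a : ℤ) (ha : K.IsGE a)
    (ht : ∀ n : ℤ, EtCoh.IsTorsion (DCoh.HDEt K n)) :
    Nonempty ((DEt.extZeroD j ⋙ DCoh.RpushEt P p).obj K ≅ (DEt.extZeroD j₁ ⋙ DCoh.RpushEt P₁ p₁).obj K) := by
  haveI := hasRpushEt π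
  obtain ⟨e⟩ := nonempty_Rpush_extZero_iso j₁ π j w K a ha ht
  obtain ⟨e'⟩ := nonempty_Rpush_comp π p p₁ w' ((DEt.extZeroD j₁).obj K)
  exact ⟨(DCoh.RpushEt P p).mapIso e ≪≫ e'.symm⟩

/-- **independence of the compactification** -/
theorem nonempty_indep {X Y : Scheme.{u}} [CompactSpace ↥X] [QuasiSeparatedSpace ↥Y] {f : X ⟶ Y}
    (c c' : DEt.Compactification f) [PreservesFiniteLimits (EtShriek.extZero c.j)] [DCoh.HasRpushEt c.Xbar c.fbar]
    [PreservesFiniteLimits (EtShriek.extZero c'.j)] [DCoh.HasRpushEt c'.Xbar c'.fbar] (K : DCoh.DEt X) (a : ℤ)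
    (ha : K.IsGE a) (ht : ∀ n : ℤ, EtCoh.IsTorsion (DCoh.HDEt K n)) :
    Nonempty ((DEt.Rshriek c).obj K ≅ (DEt.Rshriek c').obj K) := by
  obtain ⟨d, p₁, p₂, h₁, h₂, hj₁, hj₂, hf₁, hf₂⟩ := Compactif.exists_dominating c c'
  haveI := EtShriekStalk.preservesFiniteLimits d.j
  haveI := hasRpushEt d.fbar
  obtain ⟨e₁⟩ := nonempty_Rshriek_iso d.j d.fbar c.j c.fbar p₁ hj₁ hf₁ K a ha ht
  obtain ⟨e₂⟩ := nonempty_Rshriek_iso d.j d.fbar c'.j c'.fbar p₂ hj₂ hf₂ K a ha ht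
  exact ⟨e₁ ≪≫ e₂.symm⟩

theorem isGE_of_bdd {X : Scheme.{u}} {K : DCoh.DEt X} (hb : ∃ a : ℤ, ∀ n : ℤ, n < a → IsZero (DCoh.HDEt K n)) :
    ∃ a : ℤ, K.IsGE a :=
  hb.imp fun a h => (DerivedCategory.isGE_iff K a).2 h

end Groth.Agent.EtRshriek
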