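import Groth.Agent.EtBCBridge.Main
import Groth.Agent.TorBalance.MapExtend
import Groth.Prelude.Def_DEt2

/-!
Cohomology sheaves of the unbounded direct image of a single sheaf.
-/

set_option autoImplicit false
set_option backward.isDefEq.respectTransparency false
set_option backward.isDefEq.respectTransparency.types false
set_option linter.style.haveILetI false
set_option linter.unusedSectionVars false
set_option linter.overlappingInstances false
set_option maxHeartbeats 1000000

universe u

open CategoryTheory CategoryTheory.Limits AlgebraicGeometry Opposite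

attribute [local instance] HasDerivedCategory.standard

noncomputable section

namespace Groth.Agent.EtRshriek

open DerivedCategory (Q Qh homologyFunctor)

variable {X S : Scheme.{u}} (f : X ⟶ S) [DCoh.HasRpushEt X f]

/-- the cohomology of `Rf_*` of a sheaf, on an injective resolution -/
theorem nonempty_H_single (F : EtCoh.Ab X) (R : InjectiveResolution F) (i : ℤ) :
    Nonempty (DCoh.HDEt ((DCoh.RpushEt X f).obj (EtBC.single X F)) i ≅
      ((((EtCoh.push f).mapHomologicalComplex (ComplexShape.up ℕ)).obj R.cocomplex).extend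
        ComplexShape.embeddingUpNat).homology i) := by
  haveI : R.cochainComplex.IsKInjective := CochainComplex.isKInjective_of_injective _ 0
  let qX := HomotopyCategory.quotient (EtCoh.Ab X) (ComplexShape.up ℤ)
  let K := qX.obj R.cochainComplex
  let φ : EtBC.single X F ≅ Qh.obj K :=
    (DerivedCategory.singleFunctorIsoCompQ (EtCoh.Ab X) 0).app F ≪≫ asIso (Q.map R.ι') ≪≫
      ((DerivedCategory.quotientCompQhIso (EtCoh.Ab X)).app R.cochainComplex).symm
  haveI := RPlusComp.isIso_totalRightDerivedUnit f K ‹R.cochainComplex.IsKInjective›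
  exact ⟨(homologyFunctor (EtCoh.Ab S) i).mapIso ((DCoh.RpushEt X f).mapIso φ ≪≫
      (asIso ((EtBCBridge.uR f).app K)).symm ≪≫
      (DerivedCategory.quotientCompQhIso (EtCoh.Ab S)).app
        (((EtCoh.push f).mapHomologicalComplex (ComplexShape.up ℤ)).obj R.cochainComplex)) ≪≫
    (DerivedCategory.homologyFunctorFactors (EtCoh.Ab S) i).app _ ≪≫
    (HomologicalComplex.homologyFunctor _ _ i).mapIso (TorBalance.mapExtendIso (EtCoh.push f) _ R.cocomplex)⟩

/-- in degree `q` it is `R^q f_*` -/
theorem nonempty_H_single_nat (F : EtCoh.Ab X) (q : ℕ) :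
    Nonempty (DCoh.HDEt ((DCoh.RpushEt X f).obj (EtBC.single X F)) (q : ℤ) ≅ (EtCoh.Rpush f q).obj F) := by
  let R := injectiveResolution F
  obtain ⟨e⟩ := nonempty_H_single f F R q
  exact ⟨e ≪≫ HomologicalComplex.extendHomologyIso _ ComplexShape.embeddingUpNat (j := q) rfl ≪≫
    (R.isoRightDerivedObj (EtCoh.push f) q).symm⟩

/-- it vanishes in negative degrees -/
theorem isZero_H_single_neg (F : EtCoh.Ab X) (i : ℤ) (hi : i < 0) :
    IsZero (DCoh.HDEt ((DCoh.RpushEt X f).obj (EtBC.single X F)) i) := by
  obtain ⟨e⟩ := nonempty_H_single f F (injectiveResolution F) i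
  refine IsZero.of_iso ((HomologicalComplex.exactAt_iff_isZero_homology _ i).1 ?_) e
  exact HomologicalComplex.ExactAt.of_isZero (HomologicalComplex.isZero_extend_X _ _ i fun n hn => by
    simp at hn; omega)

/-- exact functors commute with singles -/
theorem nonempty_map_single {T : Scheme.{u}} (Φ : EtCoh.Ab X ⥤ EtCoh.Ab T) [Φ.Additive]
    [PreservesFiniteLimits Φ] [PreservesFiniteColimits Φ] (F : EtCoh.Ab X) :
    Nonempty (Φ.mapDerivedCategory.obj (EtBC.single X F) ≅ EtBC.single T (Φ.obj F)) :=
  ⟨(Φ.mapDerivedCategorySingleFunctor 0).app F⟩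

end Groth.Agent.EtRshriek
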