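import Groth.Agent.EtRshriek.Bound
import Groth.Agent.EtPBC.Derived
import Groth.Agent.EtPBC.ShriekProper
import Groth.Agent.ShriekLQF.Compact
import Groth.Agent.DerPlus.Acyclic
import Mathlib

/-!
`Rπ_* j''_! = (j'' ≫ π)_!` on bounded below objects with torsion cohomology, for `π` proper.
-/

set_option autoImplicit false
set_option backward.isDefEq.respectTransparency false
set_option backward.isDefEq.respectTransparency.types false
set_option linter.style.haveILetI false
set_option linter.unusedSectionVars false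
set_option linter.overlappingInstances false
set_option maxHeartbeats 1000000

universe u

open CategoryTheory CategoryTheory.Limits CategoryTheory.Pretriangulated AlgebraicGeometry Opposite

attribute [local instance] HasDerivedCategory.standard

noncomputable section

namespace Groth.Agent.EtRshriek

open DerivedCategory (Q Qh homologyFunctor)
open EtBCBridge (qh uR)

section general

variable {A B : Type*} [Category* A] [Category* B] [Abelian A] [Abelian B] [HasDerivedCategory A]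
  [HasDerivedCategory B] {Φ Ψ : DerivedCategory A ⥤ DerivedCategory B} [Φ.CommShift ℤ] [Ψ.CommShift ℤ]
  [Φ.IsTriangulated] [Ψ.IsTriangulated] (η : Φ ⟶ Ψ)

/-- a natural transformation which is bijective on all shifts of the cohomology objects -/
theorem isIso_app_of_singles (hΦ : WayOut.PreservesGE Φ) (hΨ : WayOut.PreservesGE Ψ) (K : DerivedCategory A)
    (n : ℤ) (hn : K.IsGE n)
    (h : ∀ (i m : ℤ), IsIso (η.app ((WayOut.sgl (WayOut.Hn i K))⟦m⟧))) : IsIso (η.app K) := by
  let P : DerivedCategory A → Prop := fun M => ∀ m : ℤ, IsIso (η.app (M⟦m⟧))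
  have hP : WayOut.Stable P :=
    { iso := fun e h m => (NatTrans.isIso_app_iff_of_iso η ((shiftFunctor _ m).mapIso e)).1 (h m)
      shift := fun {M} a h m =>
        (NatTrans.isIso_app_iff_of_iso η ((shiftFunctorAdd' _ a m (a + m) rfl).app M)).1 (h (a + m))
      zero := fun hM m => ⟨0, (Φ.map_isZero ((shiftFunctor _ m).map_isZero hM)).eq_of_src _ _,
        (Ψ.map_isZero ((shiftFunctor _ m).map_isZero hM)).eq_of_src _ _⟩
      ext := fun T hT h1 h3 m => by
        rw [DerivedCategory.isIso_iff]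
        intro i
        have hTm := Triangle.shift_distinguished T hT m
        haveI : IsIso (η.app (T.obj₁⟦m⟧⟦(1 : ℤ)⟧)) :=
          (NatTrans.isIso_app_iff_of_iso η ((shiftFunctorAdd' _ m 1 (m + 1) rfl).app T.obj₁)).1 (h1 (m + 1))
        haveI : IsIso (η.app (T.obj₃⟦m⟧⟦(-1 : ℤ)⟧)) :=
          (NatTrans.isIso_app_iff_of_iso η ((shiftFunctorAdd' _ m (-1) (m + -1) rfl).app T.obj₃)).1 (h3 (m + -1))
        haveI : IsIso (η.app (T.obj₁⟦m⟧)) := h1 m
        haveI : IsIso (η.app (T.obj₃⟦m⟧)) := h3 m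
        exact EtPBC.isIso_H_app_of_triangle η _ hTm i
          (inferInstanceAs (IsIso ((homologyFunctor _ i).map (η.app (T.obj₃⟦m⟧⟦(-1 : ℤ)⟧)))))
          (inferInstanceAs (IsIso ((homologyFunctor _ i).map (η.app (T.obj₁⟦m⟧)))))
          (inferInstanceAs (IsIso ((homologyFunctor _ i).map (η.app (T.obj₃⟦m⟧)))))
          (inferInstanceAs (IsIso ((homologyFunctor _ i).map (η.app (T.obj₁⟦m⟧⟦(1 : ℤ)⟧))))) }
  rw [DerivedCategory.isIso_iff]
  intro q
  obtain ⟨T, hT, rfl, ha', ⟨b, hb⟩, hV, hH⟩ := WayOut.exists_bounded_approx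
    (P := fun M => P (WayOut.sgl M))
    (fun hM => hP.zero ((DerivedCategory.singleFunctor _ 0).map_isZero hM))
    (fun e hM => hP.iso ((DerivedCategory.singleFunctor _ 0).mapIso e) hM) K n hn q h
  have hU : P T.obj₁ := WayOut.stable_of_bounded hP (b + 1 - n).toNat T.obj₁ n b (by lia) ha' hb hH
  haveI : IsIso (η.app T.obj₁) := (NatTrans.isIso_app_iff_of_iso η ((shiftFunctorZero _ ℤ).app T.obj₁)).1 (hU 0)
  have := WayOut.isIso_H_map_of_isGE Φ hΦ T hT (q + 1) q hV (by lia)
  have := WayOut.isIso_H_map_of_isGE Ψ hΨ T hT (q + 1) q hV (by lia)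
  have heq := congrArg (homologyFunctor B q).map (η.naturality T.mor₁)
  rw [Functor.map_comp, Functor.map_comp] at heq
  have : IsIso ((homologyFunctor B q).map (Φ.map T.mor₁) ≫
      (homologyFunctor B q).map (η.app T.obj₂)) := heq ▸ inferInstance
  exact IsIso.of_isIso_comp_left ((homologyFunctor B q).map (Φ.map T.mor₁)) _

end general

variable {X P₁ P : Scheme.{u}} (j₁ : X ⟶ P₁) [IsOpenImmersion j₁] (j : X ⟶ P) [IsOpenImmersion j] (π : P₁ ⟶ P)
  [PreservesFiniteLimits (EtShriek.extZero j₁)] [PreservesFiniteLimits (EtShriek.extZero j)]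
  [DCoh.HasRpushEt P₁ π] (φ : EtShriek.extZero j ≅ EtShriek.extZero j₁ ⋙ EtCoh.push π)

/-- the termwise comparison -/
def phiCx (L : CochainComplex (EtCoh.Ab X) ℤ) :
    ((EtShriek.extZero j).mapHomologicalComplex (ComplexShape.up ℤ)).obj L ≅
      ((EtCoh.push π).mapHomologicalComplex (ComplexShape.up ℤ)).obj
        (((EtShriek.extZero j₁).mapHomologicalComplex (ComplexShape.up ℤ)).obj L) :=
  HomologicalComplex.Hom.isoOfComponents (fun n => φ.app (L.X n))
    (fun a b _ => (φ.hom.naturality (L.d a b)).symm)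

/-- the value of the comparison on a complex -/
def etaApp (L : CochainComplex (EtCoh.Ab X) ℤ) :
    (DEt.extZeroD j).obj (Q.obj L) ⟶ (DEt.extZeroD j₁ ⋙ DCoh.RpushEt P₁ π).obj (Q.obj L) :=
  (EtShriek.extZero j).mapDerivedCategoryFactors.hom.app L ≫ Q.map (phiCx j₁ j π φ L).hom ≫
    (DerivedCategory.quotientCompQhIso (EtCoh.Ab P)).inv.app _ ≫
    (uR π).app ((qh P₁).obj (((EtShriek.extZero j₁).mapHomologicalComplex (ComplexShape.up ℤ)).obj L)) ≫
    (DCoh.RpushEt P₁ π).map ((DerivedCategory.quotientCompQhIso (EtCoh.Ab P₁)).hom.app _ ≫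
      (EtShriek.extZero j₁).mapDerivedCategoryFactors.inv.app L)

theorem etaApp_natural {L L' : CochainComplex (EtCoh.Ab X) ℤ} (a : L ⟶ L') :
    (DEt.extZeroD j).map (Q.map a) ≫ etaApp j₁ j π φ L' =
      etaApp j₁ j π φ L ≫ (DEt.extZeroD j₁ ⋙ DCoh.RpushEt P₁ π).map (Q.map a) := by
  let a₁ := ((EtShriek.extZero j₁).mapHomologicalComplex (ComplexShape.up ℤ)).map a
  have h1 : ((EtShriek.extZero j).mapHomologicalComplex (ComplexShape.up ℤ)).map a ≫ (phiCx j₁ j π φ L').hom =
      (phiCx j₁ j π φ L).hom ≫ ((EtCoh.push π).mapHomologicalComplex (ComplexShape.up ℤ)).map a₁ :=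
    HomologicalComplex.hom_ext _ _ fun n => φ.hom.naturality (a.f n)
  have h2 := (DerivedCategory.quotientCompQhIso (EtCoh.Ab P)).inv.naturality
    (((EtCoh.push π).mapHomologicalComplex (ComplexShape.up ℤ)).map a₁)
  have h3 := (uR π).naturality ((qh P₁).map a₁)
  have h4 := (DerivedCategory.quotientCompQhIso (EtCoh.Ab P₁)).hom.naturality a₁
  have h5 := (EtShriek.extZero j₁).mapDerivedCategoryFactors.inv.naturality a
  simp only [Functor.comp_map] at h2 h3 h4 h5
  simp only [etaApp, Category.assoc, Functor.comp_map]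
  rw [Functor.mapDerivedCategoryFactors_hom_naturality_assoc]
  congr 1
  rw [← Functor.map_comp_assoc, h1, Functor.map_comp_assoc]
  congr 1
  rw [reassoc_of% h2]
  congr 1
  refine (reassoc_of% h3) _ |>.trans ?_
  congr 1
  rw [← Functor.map_comp, ← Functor.map_comp]
  congr 1
  rw [reassoc_of% h4, h5, Category.assoc]

/-- the comparison -/
def eta : DEt.extZeroD j ⟶ DEt.extZeroD j₁ ⋙ DCoh.RpushEt P₁ π :=
  Localization.liftNatTrans Q (HomologicalComplex.quasiIso (EtCoh.Ab X) (ComplexShape.up ℤ))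
    (Q ⋙ DEt.extZeroD j) (Q ⋙ (DEt.extZeroD j₁ ⋙ DCoh.RpushEt P₁ π)) (DEt.extZeroD j)
    (DEt.extZeroD j₁ ⋙ DCoh.RpushEt P₁ π)
    { app := etaApp j₁ j π φ
      naturality := fun _ _ a => etaApp_natural j₁ j π φ a }

theorem eta_app (L : CochainComplex (EtCoh.Ab X) ℤ) : (eta j₁ j π φ).app (Q.obj L) = etaApp j₁ j π φ L := by
  haveI : Localization.Lifting Q (HomologicalComplex.quasiIso (EtCoh.Ab X) (ComplexShape.up ℤ))
      (Q ⋙ DEt.extZeroD j) (DEt.extZeroD j) := ⟨Iso.refl _⟩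
  rw [eta, Localization.liftNatTrans_app]
  simp [Localization.Lifting.iso]

/-- the comparison on a complex, through a K-injective representative -/
theorem isIso_etaApp_iff (L : CochainComplex (EtCoh.Ab X) ℤ) {J : CochainComplex (EtCoh.Ab P₁) ℤ}
    [hJ : J.IsKInjective] (s : ((EtShriek.extZero j₁).mapHomologicalComplex (ComplexShape.up ℤ)).obj L ⟶ J)
    [QuasiIso s] :
    IsIso ((eta j₁ j π φ).app (Q.obj L)) ↔
      QuasiIso ((phiCx j₁ j π φ L).hom ≫ ((EtCoh.push π).mapHomologicalComplex (ComplexShape.up ℤ)).map s) := by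
  haveI := RPlusComp.isIso_totalRightDerivedUnit π ((qh P₁).obj J) hJ
  haveI : IsIso (Qh.map ((qh P₁).map s)) :=
    (NatIso.isIso_map_iff (DerivedCategory.quotientCompQhIso (EtCoh.Ab P₁)) s).2 inferInstance
  let M := ((EtShriek.extZero j₁).mapHomologicalComplex (ComplexShape.up ℤ)).obj L
  let ps := ((EtCoh.push π).mapHomologicalComplex (ComplexShape.up ℤ)).map s
  have h3 := (uR π).naturality ((qh P₁).map s)
  have h2 := (DerivedCategory.quotientCompQhIso (EtCoh.Ab P)).inv.naturality ps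
  simp only [Functor.comp_map] at h2 h3
  haveI : IsIso ((DCoh.RpushEt P₁ π).map (Qh.map ((qh P₁).map s))) := inferInstance
  have key : Q.map ((phiCx j₁ j π φ L).hom) ≫ (DerivedCategory.quotientCompQhIso (EtCoh.Ab P)).inv.app _ ≫
      (uR π).app ((qh P₁).obj M) ≫ (DCoh.RpushEt P₁ π).map (Qh.map ((qh P₁).map s)) =
      Q.map ((phiCx j₁ j π φ L).hom ≫ ps) ≫
        (DerivedCategory.quotientCompQhIso (EtCoh.Ab P)).inv.app _ ≫ (uR π).app ((qh P₁).obj J) := by
    rw [Functor.map_comp, Category.assoc, reassoc_of% h2]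
    congr 2
    exact h3.symm
  rw [← DerivedCategory.isIso_Q_map_iff_quasiIso, eta_app, etaApp, isIso_comp_left_iff]
  rw [← Category.assoc, ← Category.assoc, isIso_comp_right_iff,
    ← isIso_comp_right_iff _ ((DCoh.RpushEt P₁ π).map (Qh.map ((qh P₁).map s))), Category.assoc, Category.assoc,
    key, ← Category.assoc, isIso_comp_right_iff, isIso_comp_right_iff]

/-- shifted torsion-type sheaves: acyclicity gives bijectivity -/
theorem isIso_eta_single_shift (F : EtCoh.Ab X) [PreservesFiniteLimits (EtCoh.push π)]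
    (hF : ∀ q : ℕ, 0 < q → IsZero ((EtCoh.Rpush π q).obj ((EtShriek.extZero j₁).obj F))) (n : ℤ) :
    IsIso ((eta j₁ j π φ).app ((WayOut.sgl F)⟦n⟧)) := by
  let R := InjectiveResolution.of ((EtShriek.extZero j₁).obj F)
  haveI : R.cochainComplex.IsKInjective := CochainComplex.isKInjective_of_injective _ 0
  let L := (HomologicalComplex.single (EtCoh.Ab X) (ComplexShape.up ℤ) 0).obj F
  let e₁ := (HomologicalComplex.singleMapHomologicalComplex (EtShriek.extZero j₁) (ComplexShape.up ℤ) 0).app F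
  let s : ((EtShriek.extZero j₁).mapHomologicalComplex (ComplexShape.up ℤ)).obj L ⟶ R.cochainComplex :=
    e₁.hom ≫ R.ι'
  haveI : QuasiIso s := inferInstanceAs (QuasiIso (e₁.hom ≫ R.ι'))
  let Pi := (EtCoh.push π).mapHomologicalComplex (ComplexShape.up ℤ)
  haveI h₀ : QuasiIso (Pi.map R.ι') := by
    have := (DerPlus.mapExtend_quasiIso_iff (EtCoh.push π) R.ι).2
      ((DerPlus.quasiIso_map_res_iff (EtCoh.push π) _ R).2 ⟨inferInstance, hF⟩)
    haveI : QuasiIso (Pi.map (HomologicalComplex.extendMap R.ι ComplexShape.embeddingUpNat)) := this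
    rw [InjectiveResolution.ι', Functor.map_comp]
    haveI : QuasiIso (Pi.map ((ComplexShape.embeddingUpNat.extendFunctor (EtCoh.Ab P₁)).map R.ι)) := this
    infer_instance
  haveI : QuasiIso ((phiCx j₁ j π φ L).hom ≫ Pi.map s) := by
    rw [Functor.map_comp]
    infer_instance
  let j0 := (EtShriek.extZero j).mapHomologicalComplex (ComplexShape.up ℤ)
  let j1 := (EtShriek.extZero j₁).mapHomologicalComplex (ComplexShape.up ℤ)
  haveI : (R.cochainComplex⟦n⟧).IsKInjective := inferInstance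
  let sn : j1.obj (L⟦n⟧) ⟶ R.cochainComplex⟦n⟧ := (j1.commShiftIso n).hom.app L ≫ s⟦n⟧'
  haveI : QuasiIso sn := inferInstanceAs (QuasiIso ((j1.commShiftIso n).hom.app L ≫ s⟦n⟧'))
  have heq : (j0.commShiftIso n).hom.app L ≫ ((phiCx j₁ j π φ L).hom ≫ Pi.map s)⟦n⟧' ≫
      (Pi.commShiftIso n).inv.app R.cochainComplex = (phiCx j₁ j π φ (L⟦n⟧)).hom ≫ Pi.map sn := by
    refine HomologicalComplex.hom_ext _ _ fun k => ?_
    simp [j0, j1, Pi, sn, phiCx]
    exact congrArg (φ.hom.app (L.X (k + n)) ≫ ·) (Category.id_comp _).symm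
  haveI : QuasiIso ((phiCx j₁ j π φ (L⟦n⟧)).hom ≫ Pi.map sn) := by
    rw [← heq]
    infer_instance
  have h := (isIso_etaApp_iff j₁ j π φ (L⟦n⟧) sn).2 this
  exact (NatTrans.isIso_app_iff_of_iso (eta j₁ j π φ) ((Q.commShiftIso n).app L ≪≫
    (shiftFunctor _ n).mapIso ((DerivedCategory.singleFunctorIsoCompQ (EtCoh.Ab X) 0).app F).symm)).1 h

/-- **independence of the compactification, in the dominated case** -/
theorem nonempty_Rpush_extZero_iso {X P₁ P : Scheme.{u}} (j₁ : X ⟶ P₁) [IsOpenImmersion j₁] (π : P₁ ⟶ P)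
    [IsProper π] (j : X ⟶ P) [IsOpenImmersion j] (w : j₁ ≫ π = j) [PreservesFiniteLimits (EtShriek.extZero j₁)]
    [PreservesFiniteLimits (EtShriek.extZero j)] [DCoh.HasRpushEt P₁ π] (K : DCoh.DEt X) (a : ℤ) (ha : K.IsGE a)
    (ht : ∀ n : ℤ, EtCoh.IsTorsion (DCoh.HDEt K n)) :
    Nonempty ((DEt.extZeroD j).obj K ≅ (DCoh.RpushEt P₁ π).obj ((DEt.extZeroD j₁).obj K)) := by
  subst w
  haveI := FpqcDescent.locallyQuasiFinite_of_etale j₁
  haveI := FpqcDescent.locallyQuasiFinite_of_etale (j₁ ≫ π)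
  obtain ⟨c⟩ := ShriekLQF.nonempty_lowerShriek_comp j₁ π
  obtain ⟨e₁⟩ := ShriekLQF.nonempty_extZero_iso_lowerShriek j₁
  obtain ⟨e⟩ := ShriekLQF.nonempty_extZero_iso_lowerShriek (j₁ ≫ π)
  let φ : EtShriek.extZero (j₁ ≫ π) ≅ EtShriek.extZero j₁ ⋙ EtCoh.push π :=
    e ≪≫ c ≪≫ (Functor.isoWhiskerRight e₁ _).symm
  haveI : (EtCoh.push π).IsRightAdjoint := (EtCoh.pullPushAdj π).isRightAdjoint
  haveI : PreservesFiniteLimits (EtCoh.push π) := inferInstance
  haveI := EtPullExact.pull_preservesFiniteLimits π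
  obtain ⟨adj, -⟩ := EtBCBridge.exists_adj π
  letI := adj.rightAdjointCommShift ℤ
  haveI := adj.commShift_of_leftAdjoint ℤ
  haveI := adj.isTriangulated_rightAdjoint
  haveI : IsIso ((eta j₁ (j₁ ≫ π) π φ).app K) :=
    isIso_app_of_singles (eta j₁ (j₁ ≫ π) π φ) (WayOut.preservesGE_mapDerived _)
      (preservesGE j₁ π) K a ha fun i m =>
        isIso_eta_single_shift j₁ (j₁ ≫ π) π φ _ (fun q hq => by
          obtain ⟨q, rfl⟩ : ∃ k, q = k + 1 := ⟨q - 1, by omega⟩
          exact (EtPBC.isZero_Rpush_lowerShriek j₁ π _ (ht i) q).of_iso ((EtCoh.Rpush π _).mapIso (e₁.app _))) m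
  exact ⟨asIso ((eta j₁ (j₁ ≫ π) π φ).app K)⟩

end Groth.Agent.EtRshriek
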