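import Groth.Agent.EtRshriek.CoprodSheaf
import Groth.Agent.EtRshriek.Indep
import Groth.Agent.DQCoh.Coprod
import Groth.Agent.GrothSS.Main
import Mathlib

/-!
`R f_*` commutes with uniformly bounded below direct sums for quasi-compact quasi-separated `f`.
-/

set_option autoImplicit false
set_option backward.isDefEq.respectTransparency false
set_option backward.isDefEq.respectTransparency.types false
set_option linter.style.haveILetI false
set_option linter.unusedSectionVars false
set_option linter.overlappingInstances false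
set_option maxHeartbeats 1000000

universe u

open CategoryTheory CategoryTheory.Limits AlgebraicGeometry Opposite

attribute [local instance] HasDerivedCategory.standard

noncomputable section

namespace Groth.Agent.EtRshriek

open DerivedCategory (Q Qh)
open EtBCBridge (qh uR)

variable {X Y : Scheme.{u}}

section cofan

variable {T : Type (u + 1)}

/-- coproducts in `D(X_et)` from complexes -/
theorem exists_coprod_cofan (K : T → DCoh.DEt X) (C : T → CochainComplex (EtCoh.Ab X) ℤ)
    (e : ∀ t, Q.obj (C t) ≅ K t) :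
    Nonempty (IsColimit (Cofan.mk (Q.obj (∐ C)) fun t => (e t).inv ≫ Q.map (Sigma.ι C t))) := by
  obtain ⟨h⟩ := DQCoh.nonempty_isColimit_Q_coprod (RPlusComp.hKinj X) C
  exact ⟨Cofan.IsColimit.mk _ (fun s => Cofan.IsColimit.desc h fun t => (e t).hom ≫ s.inj t)
    (fun s t => by
      change ((e t).inv ≫ Q.map (Sigma.ι C t)) ≫ _ = _
      rw [Category.assoc]
      exact (congrArg ((e t).inv ≫ ·) (Cofan.IsColimit.fac h _ t)).trans (Iso.inv_hom_id_assoc _ _))
    fun s m hm => Cofan.IsColimit.hom_ext h _ _ fun t => by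
      refine Eq.trans ?_ (Cofan.IsColimit.fac h _ t).symm
      rw [← hm t]
      exact ((Iso.hom_inv_id_assoc (e t) _).symm).trans (congrArg ((e t).hom ≫ ·) (Category.assoc _ _ _).symm)⟩

/-- exact functors preserving coproducts of sheaves preserve coproducts in the derived category -/
theorem preservesCoproducts_mapDerived (R : EtCoh.Ab X ⥤ EtCoh.Ab Y) [R.Additive] [PreservesFiniteLimits R]
    [PreservesFiniteColimits R] [PreservesColimitsOfShape (Discrete T) R] :
    PreservesColimitsOfShape (Discrete T) R.mapDerivedCategory := by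
  refine ⟨fun {K} => ?_⟩
  let RC := R.mapHomologicalComplex (ComplexShape.up ℤ)
  haveI : PreservesColimitsOfShape (Discrete T) RC :=
    ⟨fun {D} => ⟨fun hc => ⟨HomologicalComplex.isColimitOfEval _ _ fun n =>
      isColimitOfPreserves (HomologicalComplex.eval (EtCoh.Ab X) (ComplexShape.up ℤ) n ⋙ R) hc⟩⟩⟩
  let C := fun t => (Q (C := EtCoh.Ab X)).objPreimage (K.obj ⟨t⟩)
  obtain ⟨hQ⟩ := DQCoh.nonempty_isColimit_Q_coprod (RPlusComp.hKinj X) C
  obtain ⟨hQ'⟩ := DQCoh.nonempty_isColimit_Q_coprod (RPlusComp.hKinj Y) fun t => RC.obj (C t)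
  let e : K ≅ Discrete.functor fun t => Q.obj (C t) :=
    Discrete.natIso fun t => ((Q (C := EtCoh.Ab X)).objObjPreimageIso (K.obj t)).symm
  let F := R.mapDerivedCategoryFactors
  haveI : PreservesColimit (Discrete.functor fun t => Q.obj (C t)) R.mapDerivedCategory := by
    refine preservesColimit_of_preserves_colimit_cocone hQ ((IsColimit.precomposeHomEquiv
      (Discrete.natIso fun t => (F.app (C t.as)).symm :
        Discrete.functor (fun t => Q.obj (RC.obj (C t))) ≅
          (Discrete.functor fun t => Q.obj (C t)) ⋙ R.mapDerivedCategory) _).1 ?_)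
    refine IsColimit.ofIsoColimit hQ' (Cocone.ext (Q.mapIso (PreservesCoproduct.iso RC C).symm ≪≫
      (F.app (∐ C)).symm) fun t => ?_)
    have h1 : Sigma.ι (fun t => RC.obj (C t)) t.as ≫ (PreservesCoproduct.iso RC C).inv = RC.map (Sigma.ι C t.as) := by
      simp [PreservesCoproduct.iso]
    change Q.map (Sigma.ι (fun t => RC.obj (C t)) t.as) ≫
      (Q.map (PreservesCoproduct.iso RC C).inv ≫ F.inv.app _) = F.inv.app _ ≫ _
    rw [← Functor.map_comp_assoc, h1]
    exact F.inv.naturality (Sigma.ι C t.as)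
  exact preservesColimit_of_iso_diagram _ e.symm

end cofan

variable (f : X ⟶ Y) [DCoh.HasRpushEt X f]

/-- bounded below complexes of acyclic sheaves compute `R f_*` -/
theorem isIso_uR_of_acyclic (L : CochainComplex (EtCoh.Ab X) ℤ) (a : ℤ) [L.IsStrictlyGE a]
    (hL : ∀ (m : ℤ) (i : ℕ), 0 < i → IsZero ((EtCoh.Rpush f i).obj (L.X m))) :
    IsIso ((uR f).app ((qh X).obj L)) := by
  haveI : (EtCoh.push f).IsRightAdjoint := (EtCoh.pullPushAdj f).isRightAdjoint
  haveI : PreservesFiniteLimits (EtCoh.push f) := inferInstance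
  obtain ⟨I, s, hs, hI, hGE⟩ := CochainComplex.Plus.modelCategoryQuillen.exists_quasiIso_injective L a
  haveI := hs
  haveI := hGE
  haveI := hI
  haveI : I.IsKInjective := CochainComplex.isKInjective_of_injective I a
  haveI := RPlusComp.isIso_totalRightDerivedUnit f ((qh X).obj I) ‹I.IsKInjective›
  haveI : QuasiIso (((EtCoh.push f).mapHomologicalComplex (ComplexShape.up ℤ)).map s) :=
    GrothSS.quasiIso_map_of_acyclic (EtCoh.push f) s a hL hI
  haveI : IsIso (Qh.map ((qh X).map s)) :=
    (NatIso.isIso_map_iff (DerivedCategory.quotientCompQhIso (EtCoh.Ab X)) s).2 inferInstance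
  haveI : IsIso (Qh.map ((qh Y).map (((EtCoh.push f).mapHomologicalComplex (ComplexShape.up ℤ)).map s))) :=
    (NatIso.isIso_map_iff (DerivedCategory.quotientCompQhIso (EtCoh.Ab Y))
      (((EtCoh.push f).mapHomologicalComplex (ComplexShape.up ℤ)).map s)).2 inferInstance
  have h := (uR f).naturality ((qh X).map s)
  simp only [Functor.comp_map] at h
  haveI : IsIso ((DCoh.RpushEt X f).map (Qh.map ((qh X).map s))) := inferInstance
  have h' : IsIso ((uR f).app ((qh X).obj L) ≫ (DCoh.RpushEt X f).map (Qh.map ((qh X).map s))) := by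
    rw [← h]
    exact IsIso.comp_isIso' ‹IsIso (Qh.map ((qh Y).map _))› inferInstance
  exact IsIso.of_isIso_comp_right _ ((DCoh.RpushEt X f).map (Qh.map ((qh X).map s)))

variable [QuasiCompact f] [QuasiSeparated f]

/-- **`R f_*` commutes with uniformly bounded below coproducts** -/
theorem preservesColimit_RpushEt {T : Type (u + 1)} (K : T → DCoh.DEt X) (n : ℤ) (hK : ∀ t, (K t).IsGE n) :
    PreservesColimit (Discrete.functor K) (DCoh.RpushEt X f) := by
  have hrep : ∀ t, ∃ I : CochainComplex (EtCoh.Ab X) ℤ, I.IsStrictlyGE n ∧ (∀ k, Injective (I.X k)) ∧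
      Nonempty (Q.obj I ≅ K t) := fun t => by
    haveI := hK t
    let C := (Q (C := EtCoh.Ab X)).objPreimage (K t)
    let eC : Q.obj C ≅ K t := Q.objObjPreimageIso (K t)
    haveI : C.IsGE n := (DerivedCategory.isGE_Q_obj_iff C n).1 (DerivedCategory.TStructure.t.isGE_of_iso eC.symm n)
    obtain ⟨I, s, hs, hI, hGE⟩ := CochainComplex.Plus.modelCategoryQuillen.exists_quasiIso_injective (C.truncGE n) n
    haveI := hs
    exact ⟨I, hGE, hI, ⟨(asIso (Q.map (C.πTruncGE n ≫ s))).symm ≪≫ eC⟩⟩
  choose I hGE hI he using hrep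
  obtain ⟨hc⟩ := exists_coprod_cofan K I fun t => (he t).some
  haveI := preservesCoproducts_push f T
  let FC := (EtCoh.push f).mapHomologicalComplex (ComplexShape.up ℤ)
  haveI : PreservesColimitsOfShape (Discrete T) FC :=
    ⟨fun {D} => ⟨fun hc => ⟨HomologicalComplex.isColimitOfEval _ _ fun k =>
      isColimitOfPreserves (HomologicalComplex.eval (EtCoh.Ab X) (ComplexShape.up ℤ) k ⋙ EtCoh.push f) hc⟩⟩⟩
  let ev := fun k => HomologicalComplex.eval (EtCoh.Ab X) (ComplexShape.up ℤ) k
  let col := fun k => isColimitCofanMkObjOfIsColimit (ev k) _ _ (coproductIsCoproduct I)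
  haveI : (∐ I).IsStrictlyGE n := (CochainComplex.isStrictlyGE_iff _ _).2 fun k hk => by
    rw [IsZero.iff_id_eq_zero]
    exact Cofan.IsColimit.hom_ext (col k) _ _ fun t =>
      ((haveI := hGE t; (I t).isZero_of_isStrictlyGE n k hk)).eq_of_src _ _
  haveI : (EtCoh.push f).IsRightAdjoint := (EtCoh.pullPushAdj f).isRightAdjoint
  haveI hu : IsIso ((uR f).app ((qh X).obj (∐ I))) := isIso_uR_of_acyclic f _ n fun k i hi => by
    obtain ⟨q, rfl⟩ : ∃ q, i = q + 1 := ⟨i - 1, by omega⟩
    haveI : ∀ t, Injective ((I t).X k) := fun t => hI t k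
    let e : (∐ fun t => (I t).X k) ≅ (∐ I).X k := (coproductIsCoproduct _).coconePointUniqueUpToIso (col k)
    exact (EtColimH.isZero_rpush_of_cac f q _ (cac_coprod_injective T fun t => (I t).X k)).of_iso
      ((EtCoh.Rpush f (q + 1)).mapIso e.symm)
  haveI : ∀ t, IsIso ((uR f).app ((qh X).obj (I t))) := fun t =>
    haveI := hGE t
    RPlusComp.isIso_totalRightDerivedUnit f ((qh X).obj (I t))
      (haveI := hI t; CochainComplex.isKInjective_of_injective (I t) n)
  let q1 := DerivedCategory.quotientCompQhIso (EtCoh.Ab X)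
  let q2 := DerivedCategory.quotientCompQhIso (EtCoh.Ab Y)
  -- the value of the derived functor on a complex
  let v : ∀ L : CochainComplex (EtCoh.Ab X) ℤ, Q.obj (FC.obj L) ⟶ (DCoh.RpushEt X f).obj (Q.obj L) := fun L =>
    q2.inv.app (FC.obj L) ≫ (uR f).app ((qh X).obj L) ≫ (DCoh.RpushEt X f).map (q1.hom.app L)
  have hv : ∀ {L L' : CochainComplex (EtCoh.Ab X) ℤ} (a : L ⟶ L'),
      Q.map (FC.map a) ≫ v L' = v L ≫ (DCoh.RpushEt X f).map (Q.map a) := by
    intro L L' a
    have h2 := q2.inv.naturality (FC.map a)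
    have h3 := (uR f).naturality ((qh X).map a)
    have h1 := q1.hom.naturality a
    simp only [Functor.comp_map] at h1 h2 h3
    simp only [v, Category.assoc]
    rw [reassoc_of% h2]
    congr 1
    refine (reassoc_of% h3) _ |>.trans ?_
    rw [← Functor.map_comp, h1, Functor.map_comp]
  obtain ⟨hS⟩ := DQCoh.nonempty_isColimit_Q_coprod (RPlusComp.hKinj Y) fun t => FC.obj (I t)
  haveI : ∀ t, IsIso (v (I t)) := fun t => inferInstanceAs (IsIso (_ ≫ _ ≫ _))
  haveI : IsIso (v (∐ I)) := inferInstanceAs (IsIso (_ ≫ _ ≫ _))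
  refine preservesColimit_of_preserves_colimit_cocone hc ((IsColimit.precomposeHomEquiv
    (Discrete.natIso fun t => asIso (v (I t.as)) ≪≫ (DCoh.RpushEt X f).mapIso (he t.as).some :
      Discrete.functor (fun t => Q.obj (FC.obj (I t))) ≅ Discrete.functor K ⋙ DCoh.RpushEt X f) _).1 ?_)
  refine IsColimit.ofIsoColimit hS (Cocone.ext (Q.mapIso (PreservesCoproduct.iso FC I).symm ≪≫
    asIso (v (∐ I))) fun t => ?_)
  have h1 : Sigma.ι (fun t => FC.obj (I t)) t.as ≫ (PreservesCoproduct.iso FC I).inv = FC.map (Sigma.ι I t.as) := by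
    simp [PreservesCoproduct.iso]
  change Q.map (Sigma.ι (fun t => FC.obj (I t)) t.as) ≫ (Q.map (PreservesCoproduct.iso FC I).inv ≫ v (∐ I)) =
    (v (I t.as) ≫ (DCoh.RpushEt X f).map (he t.as).some.hom) ≫
      (DCoh.RpushEt X f).map ((he t.as).some.inv ≫ Q.map (Sigma.ι I t.as))
  rw [← Functor.map_comp_assoc, h1, Category.assoc, ← Functor.map_comp, Iso.hom_inv_id_assoc]
  exact hv (Sigma.ι I t.as)

end Groth.Agent.EtRshriek
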