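import Groth.Agent.EtRshriek.Comp
import Groth.Agent.EtPBC.Derived
import Mathlib

/-!
Base change for `R f_!` on bounded below torsion objects.
-/

set_option autoImplicit false
set_option backward.isDefEq.respectTransparency false
set_option backward.isDefEq.respectTransparency.types false
set_option linter.style.haveILetI false
set_option linter.unusedSectionVars false
set_option linter.overlappingInstances false
set_option maxHeartbeats 2000000

universe u

open CategoryTheory CategoryTheory.Limits AlgebraicGeometry Opposite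

attribute [local instance] HasDerivedCategory.standard

noncomputable section

namespace Groth.Agent.EtRshriek

/-- inverse image preserves torsion -/
theorem isTorsion_pull {X Y : Scheme.{u}} (g : X ⟶ Y) (F : EtCoh.Ab Y) (hF : EtCoh.IsTorsion F) :
    EtAcyc.IsLTorsion Set.univ ((EtCoh.pull g).obj F) :=
  EtAcycX.isLTorsion_pull g (EtPBC.isLTorsion_univ_of_isTorsion hF)

theorem isTorsion_of_isLTorsion {X : Scheme.{u}} {F : EtCoh.Ab X} (hF : EtAcyc.IsLTorsion Set.univ F) :
    EtCoh.IsTorsion F := by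
  intro U s x
  obtain ⟨V, g, m, hx, ⟨hm, -⟩, h0⟩ := hF U s x
  exact ⟨V, g, hx, isOfFinAddOrder_iff_nsmul_eq_zero.2 ⟨m, hm, h0⟩⟩

/-- **base change** -/
theorem nonempty_Rshriek_baseChange {X Y X' Y' : Scheme.{u}} [CompactSpace ↥X'] [QuasiSeparatedSpace ↥Y']
    {f : X ⟶ Y} (g : Y' ⟶ Y) {f' : X' ⟶ Y'} (g' : X' ⟶ X) (hc : IsPullback g' f' f g)
    (c : DEt.Compactification f) [PreservesFiniteLimits (EtShriek.extZero c.j)] [DCoh.HasRpushEt c.Xbar c.fbar]
    (c' : DEt.Compactification f') [PreservesFiniteLimits (EtShriek.extZero c'.j)]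
    [DCoh.HasRpushEt c'.Xbar c'.fbar] [PreservesFiniteLimits (EtCoh.pull g)] [PreservesFiniteLimits (EtCoh.pull g')]
    (K : DCoh.DEt X) (a : ℤ) (ha : K.IsGE a) (ht : ∀ n : ℤ, EtCoh.IsTorsion (DCoh.HDEt K n)) :
    Nonempty (((EtCoh.pull g).mapDerivedCategory).obj ((DEt.Rshriek c).obj K) ≅
      (DEt.Rshriek c').obj (((EtCoh.pull g').mapDerivedCategory).obj K)) := by
  -- the pulled back compactification
  let P := pullback c.fbar g
  let G : P ⟶ c.Xbar := pullback.fst c.fbar g
  let fb : P ⟶ Y' := pullback.snd c.fbar g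
  let j : X' ⟶ P := pullback.lift (g' ≫ c.j) f' (by rw [Category.assoc, c.fac, hc.w])
  have hjG : j ≫ G = g' ≫ c.j := pullback.lift_fst _ _ _
  have hjf : j ≫ fb = f' := pullback.lift_snd _ _ _
  have sqR : IsPullback G fb c.fbar g := IsPullback.of_hasPullback c.fbar g
  have sqL : IsPullback g' j c.j G := by
    refine IsPullback.of_bot ?_ hjG.symm sqR
    rw [hjf, c.fac]
    exact hc
  haveI : IsOpenImmersion j := MorphismProperty.of_isPullback (P := @IsOpenImmersion) sqL c.isOpenImmersion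
  haveI : IsProper fb := MorphismProperty.of_isPullback (P := @IsProper) sqR c.isProper
  let c'' : DEt.Compactification f' := ⟨P, j, fb, inferInstance, inferInstance, hjf⟩
  haveI := EtShriekStalk.preservesFiniteLimits j
  haveI : PreservesFiniteLimits (EtShriek.extZero c''.j) := EtShriekStalk.preservesFiniteLimits j
  haveI := EtPullExact.pull_preservesFiniteLimits G
  haveI := hasRpushEt fb
  haveI : DCoh.HasRpushEt c''.Xbar c''.fbar := hasRpushEt fb
  haveI := hasRpushEt g
  obtain ⟨adj, -⟩ := EtBCBridge.exists_adj g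
  let M := (DEt.extZeroD c.j).obj K
  haveI hM : M.IsGE a := WayOut.preservesGE_mapDerived _ K a ha
  haveI : IsIso (EtBC.bcMap c.fbar g fb G sqR.w adj M) :=
    EtPBC.isIso_bcMap_of_isGE c.fbar g fb G sqR.w adj M a fun i q =>
      EtPBC.isIso_bcQ_proper c.fbar g fb G sqR _
        (EtPBC.isLTorsion_univ_of_isTorsion (isTorsion_mapDerived _ (isTorsion_extZero c.j) K ht i)) q
  let φ := EtPushStalk.shriekPullIso c.j G j g' sqL.flip
  haveI : (EtCoh.pull G).IsLeftAdjoint := (EtCoh.pullPushAdj G).isLeftAdjoint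
  haveI : (EtCoh.pull g').IsLeftAdjoint := (EtCoh.pullPushAdj g').isLeftAdjoint
  obtain ⟨e₁⟩ := nonempty_mapDerived_comp (EtShriek.extZero c.j) (EtCoh.pull G)
    (EtShriek.extZero c.j ⋙ EtCoh.pull G) (Iso.refl _) K
  obtain ⟨e₂⟩ := nonempty_mapDerived_comp (EtCoh.pull g') (EtShriek.extZero j)
    (EtShriek.extZero c.j ⋙ EtCoh.pull G) φ K
  let K' := ((EtCoh.pull g').mapDerivedCategory).obj K
  have hK' : K'.IsGE a := WayOut.preservesGE_mapDerived _ K a ha
  obtain ⟨e₃⟩ := nonempty_indep c'' c' K' a hK'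
    (isTorsion_mapDerived _ (fun F hF => isTorsion_of_isLTorsion (isTorsion_pull g' F hF)) K ht)
  exact ⟨asIso (EtBC.bcMap c.fbar g fb G sqR.w adj M) ≪≫
    (DCoh.RpushEt P fb).mapIso (e₁ ≪≫ e₂.symm) ≪≫ e₃⟩

end Groth.Agent.EtRshriek
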