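import Groth.Agent.EtRshriek.ProperPush
import Mathlib

/-!
Composition of extensions by zero; `R g_! R f_! = R (g f)_!`.
-/

set_option autoImplicit false
set_option backward.isDefEq.respectTransparency false
set_option backward.isDefEq.respectTransparency.types false
set_option linter.style.haveILetI false
set_option linter.unusedSectionVars false
set_option linter.overlappingInstances false
set_option maxHeartbeats 1000000

universe u

open CategoryTheory CategoryTheory.Limits AlgebraicGeometry Opposite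

attribute [local instance] HasDerivedCategory.standard

noncomputable section

namespace Groth.Agent.EtRshriek

open DerivedCategory (Q Qh homologyFunctor)

section shriek

variable {A B C : Scheme.{u}} (a : A ⟶ B) [IsOpenImmersion a] (b : B ⟶ C) [IsOpenImmersion b]
  (c : A ⟶ C) [IsOpenImmersion c] (w : a ≫ b = c)

/-- composition of the functors of sites -/
def compEtaleCompIso : EtShriek.compEtale a ⋙ EtShriek.compEtale b ≅ EtShriek.compEtale c :=
  NatIso.ofComponents
    (fun W => MorphismProperty.Over.isoMk (Iso.refl _) (by subst w; simp))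
    (fun {W W'} g => MorphismProperty.Over.Hom.ext (by
      show g.left ≫ 𝟙 _ = 𝟙 _ ≫ g.left
      exact (Category.comp_id _).trans (Category.id_comp _).symm))

/-- composition of restrictions -/
def restrCompIso : EtShriek.restrAlong b ⋙ EtShriek.restrAlong a ≅ EtShriek.restrAlong c :=
  NatIso.ofComponents
    (fun F => (fullyFaithfulSheafToPresheaf _ _).preimageIso
      (Functor.isoWhiskerRight (NatIso.op (compEtaleCompIso a b c w)).symm F.obj))
    (fun {F G} m => by
      refine Sheaf.hom_ext (NatTrans.ext (funext fun W => ?_))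
      exact (m.hom.naturality _).symm)

/-- composition of extensions by zero -/
def extZeroCompIso : EtShriek.extZero a ⋙ EtShriek.extZero b ≅ EtShriek.extZero c :=
  ((EtShriek.extZeroAdj a).comp (EtShriek.extZeroAdj b)).leftAdjointUniq
    ((EtShriek.extZeroAdj c).ofNatIsoRight (restrCompIso a b c w).symm)

/-- extension by zero along the identity -/
def extZeroIdIso (X : Scheme.{u}) : EtShriek.extZero (𝟙 X) ≅ 𝟭 (EtCoh.Ab X) :=
  (EtShriek.extZeroAdj (𝟙 X)).leftAdjointUniq (Adjunction.id.ofNatIsoRight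
    (NatIso.ofComponents
      (fun F => (fullyFaithfulSheafToPresheaf _ _).preimageIso
        (Functor.isoWhiskerRight (NatIso.op (NatIso.ofComponents (F := EtShriek.compEtale (𝟙 X)) (G := 𝟭 _)
          (fun W => MorphismProperty.Over.isoMk (Iso.refl _) (by simp))
          (fun {W W'} g => MorphismProperty.Over.Hom.ext (by
            show g.left ≫ 𝟙 _ = 𝟙 _ ≫ g.left
            exact (Category.comp_id _).trans (Category.id_comp _).symm)))) F.obj))
      (fun {F G} m => by
        refine Sheaf.hom_ext (NatTrans.ext (funext fun W => ?_))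
        exact (m.hom.naturality _).symm)))

end shriek

/-- composition of exact functors on derived categories, objectwise -/
theorem nonempty_mapDerived_comp {X Y Z : Scheme.{u}} (F : EtCoh.Ab X ⥤ EtCoh.Ab Y) (G : EtCoh.Ab Y ⥤ EtCoh.Ab Z)
    (H : EtCoh.Ab X ⥤ EtCoh.Ab Z) [F.Additive] [G.Additive] [H.Additive] [PreservesFiniteLimits F]
    [PreservesFiniteLimits G] [PreservesFiniteLimits H] [PreservesFiniteColimits F] [PreservesFiniteColimits G]
    [PreservesFiniteColimits H] (e : F ⋙ G ≅ H) (K : DCoh.DEt X) :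
    Nonempty (G.mapDerivedCategory.obj (F.mapDerivedCategory.obj K) ≅ H.mapDerivedCategory.obj K) := by
  let L := Q.objPreimage K
  let eL : Q.obj L ≅ K := Q.objObjPreimageIso K
  let ec : (G.mapHomologicalComplex (ComplexShape.up ℤ)).obj ((F.mapHomologicalComplex (ComplexShape.up ℤ)).obj L) ≅
      (H.mapHomologicalComplex (ComplexShape.up ℤ)).obj L :=
    HomologicalComplex.Hom.isoOfComponents (fun n => e.app (L.X n)) (fun p q _ => (e.hom.naturality (L.d p q)).symm)
  exact ⟨G.mapDerivedCategory.mapIso (F.mapDerivedCategory.mapIso eL.symm ≪≫ F.mapDerivedCategoryFactors.app L) ≪≫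
    G.mapDerivedCategoryFactors.app _ ≪≫ Q.mapIso ec ≪≫ (H.mapDerivedCategoryFactors.app L).symm ≪≫
    H.mapDerivedCategory.mapIso eL⟩

/-- exact functors preserving torsion sheaves preserve torsion cohomology -/
theorem isTorsion_mapDerived {X Y : Scheme.{u}} (F : EtCoh.Ab X ⥤ EtCoh.Ab Y) [F.Additive] [PreservesFiniteLimits F]
    [PreservesFiniteColimits F] (hF : ∀ G, EtCoh.IsTorsion G → EtCoh.IsTorsion (F.obj G)) (K : DCoh.DEt X)
    (ht : ∀ n, EtCoh.IsTorsion (DCoh.HDEt K n)) (n : ℤ) : EtCoh.IsTorsion (DCoh.HDEt (F.mapDerivedCategory.obj K) n) :=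
  EtTorsPoint.isTorsion_of_iso (WayOut.mapDerivedHomologyIso F K n) (hF _ (ht n))

theorem isTorsion_extZero {X Y : Scheme.{u}} (j : X ⟶ Y) [IsOpenImmersion j] (F : EtCoh.Ab X)
    (hF : EtCoh.IsTorsion F) : EtCoh.IsTorsion ((EtShriek.extZero j).obj F) := by
  obtain ⟨e⟩ := ShriekLQF.nonempty_extZero_iso_lowerShriek j
  haveI := FpqcDescent.locallyQuasiFinite_of_etale j
  exact EtTorsPoint.isTorsion_of_iso (e.app F) (EtPBC.isTorsion_lowerShriek j F hF)

/-- **composition** -/
theorem nonempty_Rshriek_comp {X Y Z : Scheme.{u}} [CompactSpace ↥X] [QuasiSeparatedSpace ↥Y]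
    [QuasiSeparatedSpace ↥Z] {f : X ⟶ Y} {g : Y ⟶ Z} (c : DEt.Compactification f) (d : DEt.Compactification g)
    (e : DEt.Compactification (f ≫ g)) [PreservesFiniteLimits (EtShriek.extZero c.j)]
    [DCoh.HasRpushEt c.Xbar c.fbar] [PreservesFiniteLimits (EtShriek.extZero d.j)] [DCoh.HasRpushEt d.Xbar d.fbar]
    [PreservesFiniteLimits (EtShriek.extZero e.j)] [DCoh.HasRpushEt e.Xbar e.fbar] (K : DCoh.DEt X) (a : ℤ)
    (ha : K.IsGE a) (ht : ∀ n : ℤ, EtCoh.IsTorsion (DCoh.HDEt K n)) :
    Nonempty ((DEt.Rshriek d).obj ((DEt.Rshriek c).obj K) ≅ (DEt.Rshriek e).obj K) := by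
  -- a compactification of `f ≫ g` lying over the one of `g`
  let R := pullback e.fbar d.fbar
  let k₀ : X ⟶ R := pullback.lift e.j (f ≫ d.j) (by rw [Category.assoc, d.fac, e.fac])
  have hk₀ : k₀ ≫ pullback.fst e.fbar d.fbar = e.j := pullback.lift_fst _ _ _
  haveI : IsImmersion (k₀ ≫ pullback.fst e.fbar d.fbar) := by rw [hk₀]; infer_instance
  haveI : IsImmersion k₀ := IsImmersion.of_comp k₀ (pullback.fst e.fbar d.fbar)
  haveI : IsProper (pullback.snd e.fbar d.fbar) :=
    MorphismProperty.of_isPullback (P := @IsProper) (IsPullback.of_hasPullback e.fbar d.fbar) e.isProper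
  obtain ⟨e', i₀, hi₀, hji, hif⟩ := Compactif.exists_compactification (f := f ≫ g)
    (pullback.snd e.fbar d.fbar ≫ d.fbar) k₀ (by rw [← Category.assoc, pullback.lift_snd, Category.assoc, d.fac])
  let p : e'.Xbar ⟶ d.Xbar := i₀ ≫ pullback.snd e.fbar d.fbar
  haveI : IsProper p := inferInstanceAs (IsProper (i₀ ≫ pullback.snd e.fbar d.fbar))
  have hkp : e'.j ≫ p = f ≫ d.j := by
    simp only [p]
    rw [← Category.assoc, hji, pullback.lift_snd]
  -- and one of `f` inside it
  let W := pullback p d.j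
  let i : W ⟶ e'.Xbar := pullback.fst p d.j
  let fb : W ⟶ Y := pullback.snd p d.j
  let j' : X ⟶ W := pullback.lift e'.j f hkp
  haveI : IsOpenImmersion (j' ≫ i) := by
    simp only [j', i, pullback.lift_fst]; infer_instance
  haveI : IsOpenImmersion j' := IsOpenImmersion.of_comp j' i
  haveI : IsProper fb := MorphismProperty.of_isPullback (P := @IsProper) (IsPullback.of_hasPullback p d.j) ‹IsProper p›
  let c' : DEt.Compactification f := ⟨W, j', fb, inferInstance, inferInstance, pullback.lift_snd _ _ _⟩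
  haveI := EtShriekStalk.preservesFiniteLimits j'
  haveI : PreservesFiniteLimits (EtShriek.extZero c'.j) := EtShriekStalk.preservesFiniteLimits j'
  haveI := EtShriekStalk.preservesFiniteLimits e'.j
  haveI := EtShriekStalk.preservesFiniteLimits i
  haveI := hasRpushEt fb
  haveI : DCoh.HasRpushEt c'.Xbar c'.fbar := hasRpushEt fb
  haveI := hasRpushEt p
  haveI := hasRpushEt e'.fbar
  obtain ⟨e₁⟩ := nonempty_indep c c' K a ha ht
  obtain ⟨e₂⟩ := nonempty_indep e' e K a ha ht
  let M := (DEt.extZeroD j').obj K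
  have hM : M.IsGE a := WayOut.preservesGE_mapDerived _ K a ha
  obtain ⟨e₃⟩ := nonempty_properPush i p d.j fb (IsPullback.of_hasPullback p d.j) M a hM
    (isTorsion_mapDerived _ (isTorsion_extZero j') K ht)
  obtain ⟨e₄⟩ := nonempty_mapDerived_comp (EtShriek.extZero j') (EtShriek.extZero i) (EtShriek.extZero e'.j)
    (extZeroCompIso j' i e'.j (pullback.lift_fst _ _ _)) K
  obtain ⟨e₅⟩ := nonempty_Rpush_comp p d.fbar e'.fbar (by simp only [p]; rw [Category.assoc]; exact hif)
    ((DEt.extZeroD e'.j).obj K)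
  exact ⟨(DEt.Rshriek d).mapIso e₁ ≪≫ (DCoh.RpushEt d.Xbar d.fbar).mapIso (e₃ ≪≫ (DCoh.RpushEt e'.Xbar p).mapIso e₄) ≪≫
    e₅.symm ≪≫ e₂⟩

end Groth.Agent.EtRshriek
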