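import Groth.Agent.EtColimH.PTorsion
import Mathlib

/-!
Direct images along quasi-compact quasi-separated morphisms commute with filtered colimits and coproducts;
coproducts of injective sheaves are acyclic for them.
-/

set_option autoImplicit false
set_option backward.isDefEq.respectTransparency false
set_option backward.isDefEq.respectTransparency.types false
set_option linter.style.haveILetI false
set_option linter.unusedSectionVars false
set_option maxHeartbeats 1000000

universe u

open CategoryTheory CategoryTheory.Limits AlgebraicGeometry Opposite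

noncomputable section

namespace Groth.Agent.EtRshriek

open EtColimH (Qcqs CAc qcqs_bc exists_affine_nhd exists_local_rep exists_zero_of_isCompact exists_rep)

variable {X Y : Scheme.{u}} (f : X ⟶ Y) [QuasiCompact f] [QuasiSeparated f] [EtCoh.BCCont f]

/-- the comparison map for direct images of filtered colimits is an isomorphism -/
theorem preservesFilteredColimits_push (J : Type (u + 1)) [SmallCategory J] [IsFiltered J] :
    PreservesColimitsOfShape J (EtCoh.push f) := by
  refine ⟨fun {K} => ?_⟩
  let c := colimit.cocone K
  let hc : IsColimit c := colimit.isColimit K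
  let Φ := K ⋙ EtCoh.push f
  let d : colimit Φ ⟶ (EtCoh.push f).obj c.pt := colimit.desc Φ ((EtCoh.push f).mapCocone c)
  have hd : ∀ (j : J) {W : Y.Etale} (s : EtCoh.sect (Φ.obj j) W),
      d.hom.app (op W) ((colimit.ι Φ j).hom.app (op W) s) = (c.ι.app j).hom.app (op ((EtCoh.bc f).obj W)) s :=
    fun j W s => ConcreteCategory.congr_hom
      (congrArg (fun q => q.hom.app (op W)) (colimit.ι_desc ((EtCoh.push f).mapCocone c) j)) s
  haveI : Epi d := by
    refine (Sheaf.isLocallySurjective_iff_epi' AddCommGrpCat.{u + 1} d).1 ⟨fun {V} t => (EtFLC.mem_iff _).2 fun x => ?_⟩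
    obtain ⟨V', g, hV', w, hw⟩ := exists_affine_nhd V x
    haveI := (qcqs_bc f V').1
    haveI := (qcqs_bc f V').2
    obtain ⟨j, s, hs⟩ := exists_rep hc (((EtCoh.push f).obj c.pt).obj.map g.op t)
    exact ⟨V', g, w, ⟨(colimit.ι Φ j).hom.app (op V') s, (hd j s).trans hs⟩, hw⟩
  haveI : Mono d := by
    rw [Preadditive.mono_iff_cancel_zero]
    intro G a ha
    refine Sheaf.hom_ext (NatTrans.ext (funext fun ⟨V⟩ => ?_))
    refine AddCommGrpCat.ext fun z => ?_
    refine EtFLC.sect_ext (colimit Φ) fun v => ?_
    obtain ⟨W, g, ⟨w, hw⟩, j, s, hs⟩ := exists_local_rep (colimit.isColimit Φ) (a.hom.app (op V) z) v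
    obtain ⟨W', i, hW', w', hw'⟩ := exists_affine_nhd W w
    have hs' : (colimit.ι Φ j).hom.app (op W') ((Φ.obj j).obj.map i.op s) =
        (colimit Φ).obj.map (i ≫ g).op (a.hom.app (op V) z) := by
      refine (NatTrans.naturality_apply (colimit.ι Φ j).hom i.op s).trans ?_
      refine (congrArg ((colimit Φ).obj.map i.op) hs).trans ?_
      exact (ConcreteCategory.congr_hom ((colimit Φ).obj.map_comp g.op i.op) _).symm
    have h0 : (c.ι.app j).hom.app (op ((EtCoh.bc f).obj W')) ((Φ.obj j).obj.map i.op s) = 0 := by
      rw [← hd, hs', NatTrans.naturality_apply]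
      have : d.hom.app (op V) (a.hom.app (op V) z) = 0 :=
        ConcreteCategory.congr_hom (congrArg (fun q => q.hom.app (op V)) ha) z
      rw [this]
      exact map_zero _
    haveI := (qcqs_bc f W').1
    obtain ⟨k, b, hb⟩ := exists_zero_of_isCompact hc ((Φ.obj j).obj.map i.op s)
      (EtSect.isClosed_sectSupp (K.obj j) _).isCompact h0
    refine ⟨W', i ≫ g, w', ?_, ?_⟩
    · show (i.left ≫ g.left) w' = v
      rw [Scheme.Hom.comp_apply, hw', hw]
    · rw [← hs', ← colimit.w Φ b]
      show _ = (colimit Φ).obj.map (i ≫ g).op 0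
      rw [show ((Φ.map b ≫ colimit.ι Φ k).hom.app (op W') ((Φ.obj j).obj.map i.op s)) =
        (colimit.ι Φ k).hom.app (op W') ((Φ.map b).hom.app (op W') ((Φ.obj j).obj.map i.op s)) from rfl]
      rw [show (Φ.map b).hom.app (op W') ((Φ.obj j).obj.map i.op s) = 0 from hb, map_zero]
      exact (map_zero _).symm
  haveI : IsIso d := isIso_of_mono_of_epi d
  exact preservesColimit_of_preserves_colimit_cocone hc
    (IsColimit.ofIsoColimit (colimit.isColimit Φ) (Cocone.ext (asIso d) fun j => colimit.ι_desc _ j))

/-- coproducts from finite coproducts and filtered colimits -/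
theorem preservesCoproducts_of_filtered {C D : Type*} [Category C] [Category D] (G : C ⥤ D) (T : Type*)
    [HasFiniteCoproducts C] [PreservesFiniteCoproducts G] [HasColimitsOfShape (Finset (Discrete T)) C]
    [PreservesColimitsOfShape (Finset (Discrete T)) G] : PreservesColimitsOfShape (Discrete T) G := by
  refine ⟨fun {F} => ?_⟩
  let L := CoproductsFromFiniteFiltered.liftToFinsetObj F
  let hL : IsColimit (G.mapCocone (colimit.cocone L)) := isColimitOfPreserves _ (colimit.isColimit L)
  let hfin := fun S : Finset (Discrete T) =>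
    isColimitCofanMkObjOfIsColimit G (fun x : S => F.obj x) _ (coproductIsCoproduct _)
  let cs := fun (s : Cocone (F ⋙ G)) =>
    ({ pt := s.pt
       ι :=
        { app := fun S => Cofan.IsColimit.desc (hfin S) fun x => s.ι.app x.1
          naturality := fun S S' h => Cofan.IsColimit.hom_ext (hfin S) _ _ fun x => by
            simp only [Functor.comp_map, Functor.const_obj_map]
            erw [Category.comp_id, Cofan.IsColimit.fac (hfin S), ← Category.assoc, ← G.map_comp]
            rw [show Sigma.ι (fun y : S => F.obj y) x ≫ L.map h =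
              Sigma.ι (fun y : S' => F.obj y) ⟨x.1, h.down.down x.2⟩ by simp [L]]
            exact Cofan.IsColimit.fac (hfin S') _ _ } } : Cocone (L ⋙ G))
  refine preservesColimit_of_preserves_colimit_cocone
    (CoproductsFromFiniteFiltered.liftToFinsetColimitCocone F).isColimit
    { desc := fun s => hL.desc (cs s)
      fac := fun s j => ?_
      uniq := fun s m h => hL.hom_ext fun S => Cofan.IsColimit.hom_ext (hfin S) _ _ fun x => ?_ }
  · show G.map (Sigma.ι (fun x : ({j} : Finset (Discrete T)) => F.obj x) ⟨j, by simp⟩ ≫
      colimit.ι L {j}) ≫ hL.desc (cs s) = s.ι.app j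
    rw [Functor.map_comp, Category.assoc]
    erw [hL.fac (cs s) {j}]
    exact Cofan.IsColimit.fac (hfin {j}) _ _
  · erw [hL.fac (cs s) S, Cofan.IsColimit.fac (hfin S) _ x]
    rw [← h x.1, ← Category.assoc]
    congr 1
    show G.map _ ≫ G.map (colimit.ι L S) =
      G.map (Sigma.ι (fun y : ({x.1} : Finset (Discrete T)) => F.obj y) ⟨x.1, by simp⟩ ≫ colimit.ι L {x.1})
    rw [← Functor.map_comp]
    congr 1
    rw [← colimit.w L (homOfLE (Finset.singleton_subset_iff.2 x.2) : ({x.1} : Finset (Discrete T)) ⟶ S),
      ← Category.assoc]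
    congr 1
    simp [L]

/-- direct images commute with coproducts -/
theorem preservesCoproducts_push (T : Type (u + 1)) : PreservesColimitsOfShape (Discrete T) (EtCoh.push f) := by
  haveI := preservesFilteredColimits_push f (Finset (Discrete T))
  exact preservesCoproducts_of_filtered (EtCoh.push f) T

/-- coproducts of injective sheaves are acyclic -/
theorem cac_coprod_injective (T : Type (u + 1)) (I : T → EtCoh.Ab X) [∀ t, Injective (I t)] : CAc (∐ I) := by
  let F := Discrete.functor I
  let L := CoproductsFromFiniteFiltered.liftToFinsetObj F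
  have hfin : ∀ S : Finset (Discrete T), CAc (L.obj S) := fun S => by
    let g : S → EtCoh.Ab X := fun x => F.obj x.1
    haveI : ∀ x : S, Injective (g x) := fun x => inferInstanceAs (Injective (I x.1.as))
    haveI : HasBiproduct g := inferInstance
    haveI : Injective (∐ g) := Injective.of_iso (biproduct.isoCoproduct g) inferInstance
    haveI : Injective (L.obj S) := inferInstanceAs (Injective (∐ g))
    intro Z W p
    exact EtColimH.cac_injective (L.obj S) p
  let hc := CoproductsFromFiniteFiltered.liftToFinsetColimitCocone F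
  let e : colimit L ≅ ∐ I := hc.isColimit.coconePointUniqueUpToIso (colimit.isColimit F)
  let c : Cocone L := ⟨∐ I, (colimit.cocone L).ι ≫ (Functor.const _).map e.hom⟩
  intro Z W p
  exact EtColimH.cac_of_isColimit (c := c)
    ((colimit.isColimit L).ofIsoColimit (Cocone.ext e fun _ => rfl)) hfin p

end Groth.Agent.EtRshriek
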