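import Groth.Agent.EtRshriek.Indep
import Groth.Agent.EtPushStalk.ShriekBC
import Groth.Agent.EtPushStalk.OpenImm
import Groth.Agent.EtPBC.ShriekTor
import Groth.Agent.S0652
import Mathlib

/-!
`j_! R g_* = R p_* i_!` on bounded below torsion objects, for `p` proper and `g` its restriction over the open `j`.
-/

set_option autoImplicit false
set_option backward.isDefEq.respectTransparency false
set_option backward.isDefEq.respectTransparency.types false
set_option linter.style.haveILetI false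
set_option linter.unusedSectionVars false
set_option linter.overlappingInstances false
set_option maxHeartbeats 1000000

universe u

open CategoryTheory CategoryTheory.Limits AlgebraicGeometry Opposite
open scoped ZeroObject

attribute [local instance] HasDerivedCategory.standard

noncomputable section

namespace Groth.Agent.EtRshriek

open DerivedCategory (Q Qh homologyFunctor)
open EtBCBridge (qh uR)

section Support

variable {X : Scheme.{u}} (Z : Set X)

/-- stalks vanish on `Z` -/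
def VanishOn : ObjectProperty (EtCoh.Ab X) := fun G =>
  ∀ (Ω : Type u) [Field Ω] [IsSepClosed Ω] (ξ : Spec (CommRingCat.of Ω) ⟶ X),
    ξ (default : ↥(Spec (CommRingCat.of Ω))) ∈ Z → IsZero ((EtCoh.stalk ξ).obj G)

instance : (VanishOn Z).ContainsZero :=
  ⟨⟨0, isZero_zero _, fun _ _ _ ξ _ => (EtCoh.stalk ξ).map_isZero (isZero_zero _)⟩⟩

instance : (VanishOn Z).IsClosedUnderSubobjects :=
  ⟨fun f _ h Ω _ _ ξ hξ => IsZero.of_mono ((EtCoh.stalk ξ).map f) (h Ω ξ hξ)⟩

instance : (VanishOn Z).IsClosedUnderQuotients :=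
  ⟨fun f _ h Ω _ _ ξ hξ => IsZero.of_epi ((EtCoh.stalk ξ).map f) (h Ω ξ hξ)⟩

instance : (VanishOn Z).IsClosedUnderExtensions :=
  ⟨fun hS h₁ h₃ Ω _ _ ξ hξ =>
    ((hS.map_of_exact (EtCoh.stalk ξ)).exact).isZero_X₂ ((h₁ Ω ξ hξ).eq_of_src _ _) ((h₃ Ω ξ hξ).eq_of_tgt _ _)⟩

instance : (VanishOn Z).IsSerreClass where

theorem vanishOn_of_zeroAt {G : EtCoh.Ab X} (h : ∀ x ∈ Z, EtPBC.ZeroAt G x) : VanishOn Z G :=
  fun _ _ _ _ hξ => (EtPBC.isZero_stalk_iff_zeroAt rfl G).2 (h _ hξ)

end Support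

/-- the counit `j_! j⁻¹ G ⟶ G` is bijective for sheaves living on the open -/
theorem isIso_counit_of_vanishOn {U X : Scheme.{u}} (j : U ⟶ X) [IsOpenImmersion j] (G : EtCoh.Ab X)
    (h : VanishOn (Set.range j)ᶜ G) : IsIso ((EtShriek.extZeroAdj j).counit.app G) := by
  obtain ⟨e⟩ := Groth.Agent.S0652.result j ((EtShriek.restrAlong j).obj G) G ⟨Iso.refl _⟩
    fun Ω _ _ ξ hr => h Ω ξ (hr ⟨_, rfl⟩)
  -- `G` lies in the essential image of `j_!`, where the counit is bijective
  haveI : IsIso (EtShriek.extZeroAdj j).unit := by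
    rw [NatTrans.isIso_iff_isIso_app]
    exact fun F => EtPushStalk.isIso_unit_extZero j F
  haveI := (EtShriek.extZeroAdj j).fullyFaithfulLOfIsIsoUnit.full
  haveI := (EtShriek.extZeroAdj j).fullyFaithfulLOfIsIsoUnit.faithful
  haveI := (EtShriek.extZeroAdj j).isIso_counit_app_of_iso e
  infer_instance

variable {W P U Y : Scheme.{u}} (i : W ⟶ P) [IsOpenImmersion i] (p : P ⟶ Y) [IsProper p] (j : U ⟶ Y)
  [IsOpenImmersion j] (g : W ⟶ U) (sq : IsPullback i g p j)

/-- the higher direct images of sheaves living over the open live on the open -/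
theorem vanishOn_Rpush_extZero (hi : i ≫ p = g ≫ j) (F : EtCoh.Ab W) (hF : EtCoh.IsTorsion F) (q : ℕ) :
    VanishOn (Set.range j)ᶜ ((EtCoh.Rpush p q).obj ((EtShriek.extZero i).obj F)) := by
  intro Ω _ _ ξ hξ
  obtain ⟨e⟩ := ShriekLQF.nonempty_extZero_iso_lowerShriek i
  haveI := FpqcDescent.locallyQuasiFinite_of_etale i
  refine IsZero.of_iso ?_ ((EtCoh.stalk ξ).mapIso ((EtCoh.Rpush p q).mapIso (e.app F)))
  refine EtPBC.isZero_stalk_Rpush p _ (EtPBC.isLTorsion_univ_of_isTorsion (EtPBC.isTorsion_lowerShriek i F hF)) ξ q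
    (EtPBC.subsingleton_H_of_isZero (EtPBC.isZero_of_zeroAt _ fun z => EtPBC.zeroAt_pull _ _ z ?_) q)
  refine EtPBC.zeroAt_lowerShriek_of_notMem i F ?_
  rintro ⟨w, hw⟩
  apply hξ
  refine ⟨g w, ?_⟩
  have h1 : p (pullback.fst p ξ z) = ξ (pullback.snd p ξ z) := by
    rw [← Scheme.Hom.comp_apply, pullback.condition, Scheme.Hom.comp_apply]
  rw [← Scheme.Hom.comp_apply, ← hi, Scheme.Hom.comp_apply, hw, h1]
  exact congrArg _ (Subsingleton.elim (α := Spec (CommRingCat.of Ω)) _ _)

/-- all cohomology of `R p_* i_! M` lives on the open -/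
theorem cohIn_vanishOn [PreservesFiniteLimits (EtShriek.extZero i)] [DCoh.HasRpushEt P p] (hi : i ≫ p = g ≫ j)
    (M : DCoh.DEt W) (a : ℤ) (ha : M.IsGE a) (ht : ∀ n, EtCoh.IsTorsion (DCoh.HDEt M n)) :
    WSerre.cohIn (VanishOn (Set.range j)ᶜ) ((DEt.extZeroD i ⋙ DCoh.RpushEt P p).obj M) := by
  haveI := EtPullExact.pull_preservesFiniteLimits p
  obtain ⟨adj, -⟩ := EtBCBridge.exists_adj p
  letI := adj.rightAdjointCommShift ℤ
  haveI := adj.commShift_of_leftAdjoint ℤ
  haveI := adj.isTriangulated_rightAdjoint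
  refine WayOut.cohIn_of_boundedBelow _ (preservesGE i p) _ M a ha fun n m => ?_
  obtain ⟨e⟩ := nonempty_map_single (EtShriek.extZero i) (DCoh.HDEt M n)
  let E := (homologyFunctor (EtCoh.Ab Y) m).mapIso ((DCoh.RpushEt P p).mapIso e)
  refine (VanishOn (Set.range j)ᶜ).prop_of_iso E.symm ?_
  rcases lt_or_ge m 0 with hm | hm
  · exact fun Ω _ _ ξ _ => (EtCoh.stalk ξ).map_isZero (isZero_H_single_neg p _ m hm)
  · obtain ⟨q, rfl⟩ := Int.eq_ofNat_of_zero_le hm
    obtain ⟨e'⟩ := nonempty_H_single_nat p ((EtShriek.extZero i).obj (DCoh.HDEt M n)) q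
    exact (VanishOn (Set.range j)ᶜ).prop_of_iso e'.symm (vanishOn_Rpush_extZero i p j g hi _ (ht n) q)

include sq in
/-- **extension by zero commutes with proper direct image** -/
theorem nonempty_properPush [PreservesFiniteLimits (EtShriek.extZero i)] [PreservesFiniteLimits (EtShriek.extZero j)]
    [DCoh.HasRpushEt P p] [DCoh.HasRpushEt W g] (M : DCoh.DEt W) (a : ℤ) (ha : M.IsGE a)
    (ht : ∀ n, EtCoh.IsTorsion (DCoh.HDEt M n)) :
    Nonempty ((DEt.extZeroD j).obj ((DCoh.RpushEt W g).obj M) ≅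
      (DCoh.RpushEt P p).obj ((DEt.extZeroD i).obj M)) := by
  have hcoh := cohIn_vanishOn i p j g sq.w M a ha ht
  let L := Q.objPreimage M
  let eL : Q.obj L ≅ M := Q.objObjPreimageIso M
  let i0 := (EtShriek.extZero i).mapHomologicalComplex (ComplexShape.up ℤ)
  let ri := (EtShriek.restrAlong i).mapHomologicalComplex (ComplexShape.up ℤ)
  obtain ⟨J, s, hJ, hs⟩ := RPlusComp.hKinj P (i0.obj L)
  haveI := hJ
  haveI := hs
  haveI : (EtShriek.restrAlong i).IsLeftAdjoint := (EtPushStalk.restrPushAdj i).isLeftAdjoint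
  haveI : PreservesFiniteColimits (EtShriek.restrAlong i) := inferInstance
  haveI : (EtShriek.restrAlong i).IsRightAdjoint := (EtShriek.extZeroAdj i).isRightAdjoint
  haveI : PreservesFiniteLimits (EtShriek.restrAlong i) := inferInstance
  haveI : (EtShriek.restrAlong j).IsLeftAdjoint := (EtPushStalk.restrPushAdj j).isLeftAdjoint
  haveI : PreservesFiniteColimits (EtShriek.restrAlong j) := inferInstance
  haveI : (EtShriek.restrAlong j).IsRightAdjoint := (EtShriek.extZeroAdj j).isRightAdjoint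
  haveI : PreservesFiniteLimits (EtShriek.restrAlong j) := inferInstance
  haveI : CochainComplex.IsKInjective (ri.obj J) := SiteCoh.isKInjective_of_adjunction (EtShriek.extZeroAdj i) J
  -- `i⁻¹ i_! L = L`
  let u : L ⟶ ri.obj (i0.obj L) :=
    (KInj.mapHomologicalComplexAdj (EtShriek.extZeroAdj i) (ComplexShape.up ℤ)).unit.app L
  haveI : IsIso u := by
    haveI : ∀ n, IsIso (u.f n) := fun n => by
      have : u.f n = (EtShriek.extZeroAdj i).unit.app (L.X n) := by
        simp [u, KInj.mapHomologicalComplexAdj]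
      rw [this]
      exact EtPushStalk.isIso_unit_extZero i _
    exact HomologicalComplex.Hom.isIso_of_components u
  haveI : QuasiIso (ri.map s) := inferInstanceAs (QuasiIso (((EtShriek.restrAlong i).mapHomologicalComplex _).map s))
  haveI : QuasiIso (u ≫ ri.map s) := inferInstance
  let C := ((EtCoh.push p).mapHomologicalComplex (ComplexShape.up ℤ)).obj J
  -- the two sides on complexes
  haveI := RPlusComp.isIso_totalRightDerivedUnit g ((qh W).obj (ri.obj J)) ‹CochainComplex.IsKInjective (ri.obj J)›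
  haveI := RPlusComp.isIso_totalRightDerivedUnit p ((qh P).obj J) hJ
  let pg := (EtCoh.push g).mapHomologicalComplex (ComplexShape.up ℤ)
  let rj := (EtShriek.restrAlong j).mapHomologicalComplex (ComplexShape.up ℤ)
  let eg : (DCoh.RpushEt W g).obj M ≅ Q.obj (pg.obj (ri.obj J)) :=
    (DCoh.RpushEt W g).mapIso (eL.symm ≪≫ asIso (Q.map (u ≫ ri.map s)) ≪≫
      ((DerivedCategory.quotientCompQhIso (EtCoh.Ab W)).app (ri.obj J)).symm) ≪≫
    (asIso ((uR g).app ((qh W).obj (ri.obj J)))).symm ≪≫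
    (DerivedCategory.quotientCompQhIso (EtCoh.Ab U)).app _
  let ep : (DCoh.RpushEt P p).obj ((DEt.extZeroD i).obj M) ≅ Q.obj C :=
    (DCoh.RpushEt P p).mapIso ((DEt.extZeroD i).mapIso eL.symm ≪≫
      (EtShriek.extZero i).mapDerivedCategoryFactors.app L ≪≫ asIso (Q.map s) ≪≫
      ((DerivedCategory.quotientCompQhIso (EtCoh.Ab P)).app J).symm) ≪≫
    (asIso ((uR p).app ((qh P).obj J))).symm ≪≫
    (DerivedCategory.quotientCompQhIso (EtCoh.Ab Y)).app _
  let ρ := EtPushStalk.restrPushIso j p i g sq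
  let eb : pg.obj (ri.obj J) ≅ rj.obj C :=
    HomologicalComplex.Hom.isoOfComponents (fun n => ρ.app (J.X n)) (fun a b _ => (ρ.hom.naturality (J.d a b)).symm)
  -- the counit is a quasi-isomorphism
  let cnt : ((EtShriek.extZero j).mapHomologicalComplex (ComplexShape.up ℤ)).obj (rj.obj C) ⟶ C :=
    (KInj.mapHomologicalComplexAdj (EtShriek.extZeroAdj j) (ComplexShape.up ℤ)).counit.app C
  haveI : QuasiIso cnt := by
    rw [quasiIso_iff]
    intro n
    let F := EtShriek.restrAlong j ⋙ EtShriek.extZero j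
    have hn : IsIso ((EtShriek.extZeroAdj j).counit.app (C.homology n)) := by
      refine isIso_counit_of_vanishOn j _ ((VanishOn (Set.range j)ᶜ).prop_of_iso ?_ (hcoh n))
      exact (homologyFunctor (EtCoh.Ab Y) n).mapIso ep ≪≫
        (DerivedCategory.homologyFunctorFactors (EtCoh.Ab Y) n).app C
    rw [quasiIsoAt_iff_isIso_homologyMap]
    have key : HomologicalComplex.homologyMap cnt n =
        ShortComplex.homologyMap ((C.sc n).mapNatTrans (EtShriek.extZeroAdj j).counit) := by
      show ShortComplex.homologyMap ((HomologicalComplex.shortComplexFunctor _ _ n).map cnt) = _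
      congr 1
    rw [key, ShortComplex.homologyMap_mapNatTrans]
    haveI hn' : IsIso ((EtShriek.extZeroAdj j).counit.app (C.sc n).homology) := hn
    exact IsIso.comp_isIso' (Iso.isIso_hom _) (IsIso.comp_isIso' hn' (Iso.isIso_inv _))
  exact ⟨(DEt.extZeroD j).mapIso (eg ≪≫ Q.mapIso eb) ≪≫
    (EtShriek.extZero j).mapDerivedCategoryFactors.app (rj.obj C) ≪≫ asIso (Q.map cnt) ≪≫ ep.symm⟩

end Groth.Agent.EtRshriek
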